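import Cfsg.Agent.Lib.SporRecognition.CosetCert.Upper
import Cfsg.Agent.Lib.SporRecognition.Cert.Suz2160.Steps1
import Cfsg.Agent.Lib.SporRecognition.Cert.Suz2160.Steps2

/-! Generated coset-enumeration certificate: Suz over <>, 2160 cosets. -/

set_option autoImplicit false
set_option maxRecDepth 20000
set_option linter.all false
set_option Elab.async false

namespace CfsgLib.SporRecognition.Cert.Suz2160

open CfsgLib.SporRecognition.CosetCert

theorem defs_ok_c0 : allPow 8045 (defStep inv fact) 12 0 = true := by decide +kernel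
theorem defs_ok_c1 : allPow 8045 (defStep inv fact) 12 4096 = true := by decide +kernel
theorem defs_ok : allBelow 13 8045 (defStep inv fact) = true :=
  allBelow_of_upto (hi := 8192)
    (Upto.trans (mid := 4096) ((Upto.of_pow defs_ok_c0 (Nat.le_refl _)) : Upto _ _ 0 (0 + 2 ^ 12))
    ((Upto.of_pow defs_ok_c1 (Nat.le_refl _)) : Upto _ _ 4096 (4096 + 2 ^ 12)))
    (by decide) (by decide)

theorem final1_c0 : allPow 2160 (finalStep fact node item1 T1 18819 1 2160) 10 0 = true := by decide +kernel
theorem final1_c1 : allPow 2160 (finalStep fact node item1 T1 18819 1 2160) 10 1024 = true := by decide +kernel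
theorem final1_c2 : allPow 2160 (finalStep fact node item1 T1 18819 1 2160) 10 2048 = true := by decide +kernel
theorem final1 : allBelow 12 2160 (finalStep fact node item1 T1 18819 1 2160) = true :=
  allBelow_of_upto (hi := 3072)
    (Upto.trans (mid := 1024) ((Upto.of_pow final1_c0 (Nat.le_refl _)) : Upto _ _ 0 (0 + 2 ^ 10))
    (Upto.trans (mid := 2048) ((Upto.of_pow final1_c1 (Nat.le_refl _)) : Upto _ _ 1024 (1024 + 2 ^ 10))
    ((Upto.of_pow final1_c2 (Nat.le_refl _)) : Upto _ _ 2048 (2048 + 2 ^ 10))))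
    (by decide) (by decide)

theorem final2_c0 : allPow 2160 (finalStep fact node item2 T2 18819 2 2160) 10 0 = true := by decide +kernel
theorem final2_c1 : allPow 2160 (finalStep fact node item2 T2 18819 2 2160) 10 1024 = true := by decide +kernel
theorem final2_c2 : allPow 2160 (finalStep fact node item2 T2 18819 2 2160) 10 2048 = true := by decide +kernel
theorem final2 : allBelow 12 2160 (finalStep fact node item2 T2 18819 2 2160) = true :=
  allBelow_of_upto (hi := 3072)
    (Upto.trans (mid := 1024) ((Upto.of_pow final2_c0 (Nat.le_refl _)) : Upto _ _ 0 (0 + 2 ^ 10))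
    (Upto.trans (mid := 2048) ((Upto.of_pow final2_c1 (Nat.le_refl _)) : Upto _ _ 1024 (1024 + 2 ^ 10))
    ((Upto.of_pow final2_c2 (Nat.le_refl _)) : Upto _ _ 2048 (2048 + 2 ^ 10))))
    (by decide) (by decide)

theorem final3_c0 : allPow 2160 (finalStep fact node item3 T3 18819 3 2160) 10 0 = true := by decide +kernel
theorem final3_c1 : allPow 2160 (finalStep fact node item3 T3 18819 3 2160) 10 1024 = true := by decide +kernel
theorem final3_c2 : allPow 2160 (finalStep fact node item3 T3 18819 3 2160) 10 2048 = true := by decide +kernel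
theorem final3 : allBelow 12 2160 (finalStep fact node item3 T3 18819 3 2160) = true :=
  allBelow_of_upto (hi := 3072)
    (Upto.trans (mid := 1024) ((Upto.of_pow final3_c0 (Nat.le_refl _)) : Upto _ _ 0 (0 + 2 ^ 10))
    (Upto.trans (mid := 2048) ((Upto.of_pow final3_c1 (Nat.le_refl _)) : Upto _ _ 1024 (1024 + 2 ^ 10))
    ((Upto.of_pow final3_c2 (Nat.le_refl _)) : Upto _ _ 2048 (2048 + 2 ^ 10))))
    (by decide) (by decide)

theorem final4_c0 : allPow 2160 (finalStep fact node item4 T4 18819 4 2160) 10 0 = true := by decide +kernel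
theorem final4_c1 : allPow 2160 (finalStep fact node item4 T4 18819 4 2160) 10 1024 = true := by decide +kernel
theorem final4_c2 : allPow 2160 (finalStep fact node item4 T4 18819 4 2160) 10 2048 = true := by decide +kernel
theorem final4 : allBelow 12 2160 (finalStep fact node item4 T4 18819 4 2160) = true :=
  allBelow_of_upto (hi := 3072)
    (Upto.trans (mid := 1024) ((Upto.of_pow final4_c0 (Nat.le_refl _)) : Upto _ _ 0 (0 + 2 ^ 10))
    (Upto.trans (mid := 2048) ((Upto.of_pow final4_c1 (Nat.le_refl _)) : Upto _ _ 1024 (1024 + 2 ^ 10))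
    ((Upto.of_pow final4_c2 (Nat.le_refl _)) : Upto _ _ 2048 (2048 + 2 ^ 10))))
    (by decide) (by decide)

theorem relW_one : ∀ w ∈ relW, evalW (PresentedGroup.of (rels := (Cfsg.Spor.coxRelators Cfsg.Spor.Suz.edges ∪ {r | r ∈ Cfsg.Spor.Suz.extra}))) w = 1 := by
  have h : coxW Cfsg.Spor.Suz.edges pairs extraW = relW := by decide +kernel
  rw [← h]
  exact coxW_eq_one (by decide +kernel) rfl

noncomputable def tabU : Cfsg.Spor.Suz.Gen → Nat → Nat := fun a => tabs a true

theorem sect : ∃ s : Nat → PresentedGroup (Cfsg.Spor.coxRelators Cfsg.Spor.Suz.edges ∪ {r | r ∈ Cfsg.Spor.Suz.extra}) ⧸ wordSubgroup (Cfsg.Spor.coxRelators Cfsg.Spor.Suz.edges ∪ {r | r ∈ Cfsg.Spor.Suz.extra}) subW,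
    s 0 = ((1 : PresentedGroup (Cfsg.Spor.coxRelators Cfsg.Spor.Suz.edges ∪ {r | r ∈ Cfsg.Spor.Suz.extra})) : PresentedGroup (Cfsg.Spor.coxRelators Cfsg.Spor.Suz.edges ∪ {r | r ∈ Cfsg.Spor.Suz.extra}) ⧸ wordSubgroup (Cfsg.Spor.coxRelators Cfsg.Spor.Suz.edges ∪ {r | r ∈ Cfsg.Spor.Suz.extra}) subW) ∧
    ∀ a ∈ ([.a, .b, .c, .d] : List Cfsg.Spor.Suz.Gen), ∀ u, u < 2160 → tabU a u < 2160 ∧
      (PresentedGroup.of (rels := (Cfsg.Spor.coxRelators Cfsg.Spor.Suz.edges ∪ {r | r ∈ Cfsg.Spor.Suz.extra})) a) • s u = s (tabU a u) :=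
  section_of_checks invols relW relW_one (by decide +kernel) subW lets data rtriv rroot 11 11 rfl rfl
    (by decide +kernel) (by decide +kernel) (fun k hk => allBelow_spec defs_ok k hk) (covers1.trans (covers2)) (by decide +kernel)
    (by
      intro i hi u hu
      have hi' : i < 4 := hi
      interval_cases i
      · exact allBelow_spec final1 u hu
      · exact allBelow_spec final2 u hu
      · exact allBelow_spec final3 u hu
      · exact allBelow_spec final4 u hu
      ) [.a, .b, .c, .d] tabU (by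
      intro a ha
      fin_cases ha
      · exact ⟨0, by decide, rfl, rfl⟩
      · exact ⟨1, by decide, rfl, rfl⟩
      · exact ⟨2, by decide, rfl, rfl⟩
      · exact ⟨3, by decide, rfl, rfl⟩
      )

end CfsgLib.SporRecognition.Cert.Suz2160
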